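/-
Exact stabilizer chains: when the product of the sizes of the certified basic orbits of a chain of
subgroups `K₁, K₂, …` (with `Kᵢ` fixing the earlier base points) reaches the order of the ambient
group `Q`, the basic orbits of the `Kᵢ` are the orbits of the full pointwise stabilizers in `Q`, and
the pointwise stabilizer of all the base points is trivial.
-/
import Cfsg.Agent.Lib.Helper28.OrdLemmas

set_option autoImplicit false

namespace Cfsg.Agent.Lib.Helper28.Sift

open Cfsg.Agent.Lib.Helper28.Ord

section Abstract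

variable {A X : Type*} [Group A] [MulAction A X]

theorem orbit_mul_card [Finite A] (Q : Subgroup A) (b : X) :
    (MulAction.orbit Q b).ncard * Nat.card (Q ⊓ MulAction.stabilizer A b : Subgroup A) =
      Nat.card Q := by
  classical
  have h2 : Nat.card (MulAction.orbit Q b) * Nat.card (MulAction.stabilizer Q b) = Nat.card Q := by
    rw [← Nat.card_prod]
    exact Nat.card_congr (MulAction.orbitProdStabilizerEquivGroup Q b)
  have h3 : Nat.card (MulAction.stabilizer Q b) =
      Nat.card (Q ⊓ MulAction.stabilizer A b : Subgroup A) := by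
    have : MulAction.stabilizer Q b = (MulAction.stabilizer A b).subgroupOf Q := by
      ext ⟨q, hq⟩
      simp [MulAction.mem_stabilizer_iff, Subgroup.mem_subgroupOf, Subgroup.smul_def]
    rw [this, ← Subgroup.inf_subgroupOf_right, inf_comm]
    exact Nat.card_congr (Subgroup.subgroupOfEquivOfLe inf_le_left).toEquiv
  rw [← h2, h3, Nat.card_coe_set_eq]

/-- a chain of subgroups with base points is exact in `Q` -/
def ExactChain : List (Subgroup A × X) → Subgroup A → Prop
  | [], Q => Q = ⊥
  | p :: l, Q => p.1 ≤ Q ∧ (∀ g ∈ Q, ∃ k ∈ p.1, k • p.2 = g • p.2) ∧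
      ExactChain l (Q ⊓ MulAction.stabilizer A p.2)

theorem exactChain_nil (Q : Subgroup A) : ExactChain ([] : List (Subgroup A × X)) Q ↔ Q = ⊥ :=
  Iff.rfl

theorem exactChain_cons (p : Subgroup A × X) (l : List (Subgroup A × X)) (Q : Subgroup A) :
    ExactChain (p :: l) Q ↔ p.1 ≤ Q ∧ (∀ g ∈ Q, ∃ k ∈ p.1, k • p.2 = g • p.2) ∧
      ExactChain l (Q ⊓ MulAction.stabilizer A p.2) := Iff.rfl

/-- a chain whose certified orbit sizes multiply up to the order of `Q` is exact -/
theorem exactChain_of_card [Finite A] : ∀ (l : List (Subgroup A × X)) (Q : Subgroup A),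
    (∀ p ∈ l, p.1 ≤ Q) → l.Pairwise (fun p q => q.1 ≤ MulAction.stabilizer A p.2) →
    Nat.card Q ≤ (l.map (fun p => (MulAction.orbit p.1 p.2).ncard)).prod → ExactChain l Q := by
  intro l
  induction l with
  | nil =>
    intro Q _ _ hc
    simp only [List.map_nil, List.prod_nil] at hc
    rw [exactChain_nil]
    exact (Subgroup.card_le_one_iff_eq_bot Q).1 hc
  | cons p l ih =>
    intro Q hQ hpw hc
    rw [List.pairwise_cons] at hpw
    rw [List.map_cons, List.prod_cons] at hc
    set Q' := Q ⊓ MulAction.stabilizer A p.2 with hQ'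
    set P := (l.map (fun p => (MulAction.orbit p.1 p.2).ncard)).prod with hP
    have hl : ∀ q ∈ l, q.1 ≤ Q' := fun q hq =>
      le_inf (hQ q (List.mem_cons_of_mem _ hq)) (hpw.1 q hq)
    have h1 : P ≤ Nat.card Q' := chain_bound l Q' hl hpw.2
    have hpQ : p.1 ≤ Q := hQ p List.mem_cons_self
    have h2 := orbit_mul_card Q p.2
    have hfin : (MulAction.orbit Q p.2).Finite := Set.finite_range _
    have hsub : MulAction.orbit p.1 p.2 ⊆ MulAction.orbit Q p.2 := by
      rintro _ ⟨⟨r, hr⟩, rfl⟩
      exact ⟨⟨r, hpQ hr⟩, rfl⟩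
    have h3 : (MulAction.orbit p.1 p.2).ncard ≤ (MulAction.orbit Q p.2).ncard :=
      Set.ncard_le_ncard hsub hfin
    have hq'pos : 0 < Nat.card Q' := Nat.card_pos
    have hapos : 0 < (MulAction.orbit Q p.2).ncard := by
      rw [Set.ncard_pos hfin]
      exact ⟨p.2, MulAction.mem_orbit_self _⟩
    set a := (MulAction.orbit p.1 p.2).ncard with ha
    set a' := (MulAction.orbit Q p.2).ncard with ha'
    -- a' * q' ≤ a * P, a ≤ a', P ≤ q'
    have h4 : a' * Nat.card Q' ≤ a * P := by rw [h2]; exact hc
    have h5 : a * P ≤ a * Nat.card Q' := Nat.mul_le_mul_left _ h1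
    have h6 : a' ≤ a := Nat.le_of_mul_le_mul_right (le_trans h4 h5) hq'pos
    have haa : a = a' := le_antisymm h3 h6
    have h7 : a' * Nat.card Q' ≤ a' * P := by
      have h := h4
      rw [haa] at h
      exact h
    have h8 : Nat.card Q' ≤ P := Nat.le_of_mul_le_mul_left h7 hapos
    have heq : MulAction.orbit p.1 p.2 = MulAction.orbit Q p.2 :=
      Set.eq_of_subset_of_ncard_le hsub (by rw [← ha, ← ha', haa]) hfin
    rw [exactChain_cons]
    refine ⟨hpQ, ?_, ih Q' hl hpw.2 h8⟩
    intro g hg
    have hmem : g • p.2 ∈ MulAction.orbit Q p.2 := ⟨⟨g, hg⟩, rfl⟩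
    rw [← heq] at hmem
    obtain ⟨⟨k, hk⟩, hkb⟩ := hmem
    exact ⟨k, hk, hkb⟩

/-- in an exact chain, an element of `Q` fixing all the base points is trivial -/
theorem eq_one_of_exactChain : ∀ (l : List (Subgroup A × X)) (Q : Subgroup A),
    ExactChain l Q → ∀ c ∈ Q, (∀ p ∈ l, c • p.2 = p.2) → c = 1 := by
  intro l
  induction l with
  | nil =>
    intro Q h c hc _
    rw [exactChain_nil] at h
    rw [h, Subgroup.mem_bot] at hc
    exact hc
  | cons p l ih =>
    intro Q h c hc hfix
    rw [exactChain_cons] at h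
    apply ih _ h.2.2 c
    · exact ⟨hc, MulAction.mem_stabilizer_iff.2 (hfix p List.mem_cons_self)⟩
    · intro q hq
      exact hfix q (List.mem_cons_of_mem _ hq)

end Abstract

end Cfsg.Agent.Lib.Helper28.Sift
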