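/-
Sifting through an exact stabilizer chain given by orbit certificates: an element of the group
whose images of the base points are known is the product of the transversal words found by the sift.
-/
import Cfsg.Agent.Lib.Helper28.Sift.Exact

set_option autoImplicit false

namespace Cfsg.Agent.Lib.Helper28.Sift

open Cfsg.Agent.Lib.Helper28.TC
open Cfsg.Agent.Lib.Helper28.Ord

variable {α : Type}

/-- a level of a stabilizer chain: strong generators (as words) and the certificate of the orbit -/
structure Level (α : Type) where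
  words : List (List α)
  O : OrbCert

/-- the transversal word of a point of the orbit (following the parents; `fuel` hops) -/
def trans (L : Level α) (fuel r : ℕ) : List α :=
  Nat.rec (motive := fun _ => ℕ → List α) (fun _ => [])
    (fun _ ih r => Bool.rec (nthD L.words (L.O.ogen r) [] ++ ih (L.O.opar r)) []
      (Nat.beq r L.O.root)) fuel r

theorem trans_zero (L : Level α) (r : ℕ) : trans L 0 r = [] := rfl

theorem trans_succ (L : Level α) (f r : ℕ) : trans L (f + 1) r =
    Bool.rec (nthD L.words (L.O.ogen r) [] ++ trans L f (L.O.opar r)) [] (Nat.beq r L.O.root) := rfl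

/-- the row check, with the explicit generator word -/
theorem orbRowOK_spec2 (tf : α → ℕ → ℕ) (n : ℕ) (words : List (List α)) (O : OrbCert) (i : ℕ)
    (h : orbRowOK tf n words O i = true) (hi : O.inO i = true) :
    i = O.root ∨ (O.inO (O.opar i) = true ∧ O.dep (O.opar i) < O.dep i ∧ O.opar i < n ∧
      O.ogen i < words.length ∧ act tf (nthD words (O.ogen i) []) (O.opar i) = i) := by
  unfold orbRowOK at h
  rw [hi] at h
  have h' : band (allList (fun w => O.inO (act tf w i)) words)
      (Bool.rec
        (band (O.inO (O.opar i)) (band (nlt (O.dep (O.opar i)) (O.dep i))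
          (band (band (nlt (O.ogen i) words.length) (nlt (O.opar i) n))
            (Nat.beq (act tf (nthD words (O.ogen i) []) (O.opar i)) i))))
        true (Nat.beq i O.root)) = true := h
  rw [band_eq_true] at h'
  cases hr : Nat.beq i O.root with
  | true => left; exact nbeq_eq_true.1 hr
  | false =>
    right
    have h2 := h'.2
    rw [hr] at h2
    have h3 : band (O.inO (O.opar i)) (band (nlt (O.dep (O.opar i)) (O.dep i))
          (band (band (nlt (O.ogen i) words.length) (nlt (O.opar i) n))
            (Nat.beq (act tf (nthD words (O.ogen i) []) (O.opar i)) i))) = true := h2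
    rw [band_eq_true, band_eq_true, band_eq_true, band_eq_true] at h3
    exact ⟨h3.1, nlt_eq_true.1 h3.2.1, nlt_eq_true.1 h3.2.2.1.2, nlt_eq_true.1 h3.2.2.1.1,
      nbeq_eq_true.1 h3.2.2.2⟩

section Tab

variable {n : ℕ} (T : PermTable α n)

theorem wordPerm_append (w₁ w₂ : List α) :
    ((w₁ ++ w₂).map T.perm).prod = (w₁.map T.perm).prod * (w₂.map T.perm).prod := by
  rw [List.map_append, List.prod_append]

theorem wordPerm_reverse (w : List α) :
    (w.reverse.map T.perm).prod = ((w.map T.perm).prod)⁻¹ := by
  induction w with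
  | nil => simp
  | cons x w ih =>
    have hx : (T.perm x)⁻¹ = T.perm x := (eq_inv_of_mul_eq_one_left (T.perm_mul_self x)).symm
    rw [List.reverse_cons, wordPerm_append, ih]
    simp only [List.map_cons, List.map_nil, List.prod_cons, List.prod_nil, mul_one, mul_inv_rev, hx]

/-- a certified level -/
def LevelOK (L : Level α) : Prop :=
  L.O.root < n ∧ L.O.inO L.O.root = true ∧ ∀ i, i < n → orbRowOK T.tf n L.words L.O i = true

/-- the transversal word moves the root to the point and lies in the group of the level -/
theorem trans_spec (L : Level α) (hL : LevelOK T L) : ∀ (f r : ℕ), r < n → L.O.inO r = true →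
    L.O.dep r ≤ f → act T.tf (trans L f r) L.O.root = r ∧
      ((trans L f r).map T.perm).prod ∈ Subgroup.closure (wordPerms T L.words) := by
  intro f
  induction f with
  | zero =>
    intro r hr hin hd
    rcases orbRowOK_spec2 T.tf n L.words L.O r (hL.2.2 r hr) hin with h | h
    · rw [trans_zero, act_nil, h]
      exact ⟨rfl, by simp⟩
    · omega
  | succ f ih =>
    intro r hr hin hd
    rw [trans_succ]
    cases hb : Nat.beq r L.O.root with
    | true =>
      have h := nbeq_eq_true.1 hb
      show act T.tf [] L.O.root = r ∧ _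
      rw [act_nil, h]
      exact ⟨rfl, by simp⟩
    | false =>
      rcases orbRowOK_spec2 T.tf n L.words L.O r (hL.2.2 r hr) hin with h | h
      · rw [nbeq_eq_true.2 h] at hb
        cases hb
      · obtain ⟨hp, hlt, hpn, hg, hact⟩ := h
        obtain ⟨h1, h2⟩ := ih (L.O.opar r) hpn hp (by omega)
        show act T.tf (nthD L.words (L.O.ogen r) [] ++ trans L f (L.O.opar r)) L.O.root = r ∧ _
        rw [act_append, h1, hact, wordPerm_append]
        refine ⟨rfl, Subgroup.mul_mem _ (Subgroup.subset_closure ?_) h2⟩
        exact ⟨_, nthD_mem L.words [] _ hg, rfl⟩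

/-- the sift: find the transversal words level by level (pulling back the remaining targets), and
evaluate the test `P` on the resulting word; a failure of the sift counts as success -/
def siftP (tf : α → ℕ → ℕ) (P : List α → Bool) (Ls : List (Level α)) : List ℕ → List α → Bool :=
  List.rec (motive := fun _ => List ℕ → List α → Bool)
    (fun _ acc => P acc)
    (fun L _ ih ts acc => List.rec (motive := fun _ => Bool) true
      (fun t ts' _ => Bool.rec true
        (ih (List.map (act tf (List.reverse (trans L (L.O.dep t) t))) ts')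
          (acc ++ trans L (L.O.dep t) t))
        (L.O.inO t)) ts) Ls

theorem siftP_nil (tf : α → ℕ → ℕ) (P : List α → Bool) (ts : List ℕ) (acc : List α) :
    siftP tf P [] ts acc = P acc := rfl

theorem siftP_cons (tf : α → ℕ → ℕ) (P : List α → Bool) (L : Level α) (Ls : List (Level α))
    (t : ℕ) (ts : List ℕ) (acc : List α) :
    siftP tf P (L :: Ls) (t :: ts) acc = Bool.rec true
      (siftP tf P Ls (List.map (act tf (List.reverse (trans L (L.O.dep t) t))) ts)
        (acc ++ trans L (L.O.dep t) t)) (L.O.inO t) := rfl

/-- the point of `Fin n` with a given value -/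
def mkPt (hn : 0 < n) (i : ℕ) : Fin n := ⟨i % n, Nat.mod_lt _ hn⟩

theorem mkPt_val (hn : 0 < n) (i : ℕ) (hi : i < n) : (mkPt hn i).val = i := Nat.mod_eq_of_lt hi

/-- the chain of subgroups and base points of a list of levels -/
def chainOf (hn : 0 < n) (Ls : List (Level α)) :
    List (Subgroup (Equiv.Perm (Fin n)) × Fin n) :=
  Ls.map (fun L => (Subgroup.closure (wordPerms T L.words), mkPt hn L.O.root))

/-- soundness of the sift -/
theorem siftP_sound (hn : 0 < n) : ∀ (Ls : List (Level α))
    (Q : Subgroup (Equiv.Perm (Fin n))) (ts : List ℕ) (c : Equiv.Perm (Fin n)),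
    (∀ L ∈ Ls, LevelOK T L) → ExactChain (chainOf T hn Ls) Q → c ∈ Q →
    List.Forall₂ (fun L t => (c (mkPt hn L.O.root)).val = t) Ls ts →
    ∃ w : List α, c = (w.map T.perm).prod ∧
      ∀ (P : List α → Bool) (acc : List α), siftP T.tf P Ls ts acc = P (acc ++ w) := by
  intro Ls
  induction Ls with
  | nil =>
    intro Q ts c _ hex hc _
    have hQ : Q = ⊥ := hex
    rw [hQ, Subgroup.mem_bot] at hc
    exact ⟨[], by simp [hc], fun P acc => by rw [siftP_nil, List.append_nil]⟩
  | cons L Ls ih =>
    intro Q ts c hok hex hc hts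
    cases hts with
    | cons ht hts' =>
      rename_i t ts'
      have hL : LevelOK T L := hok L List.mem_cons_self
      have hex' : ExactChain ((Subgroup.closure (wordPerms T L.words), mkPt hn L.O.root) ::
          chainOf T hn Ls) Q := hex
      rw [exactChain_cons] at hex'
      obtain ⟨hKQ, horb, hrest⟩ := hex'
      -- the target lies in the certified orbit
      obtain ⟨k, hk, hkb⟩ := horb c hc
      have hb : mkPt hn L.O.root = ⟨L.O.root, hL.1⟩ := Fin.ext (mkPt_val hn _ hL.1)
      have hin : L.O.inO t = true := by
        have hmem : c (mkPt hn L.O.root) ∈ MulAction.orbit (Subgroup.closure (wordPerms T L.words))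
            (⟨L.O.root, hL.1⟩ : Fin n) := by
          refine ⟨⟨k, hk⟩, ?_⟩
          rw [← hb]
          exact hkb
        rw [orbit_eq_of_cert T L.words L.O hL.1 hL.2.1 hL.2.2] at hmem
        have : L.O.inO (c (mkPt hn L.O.root)).val = true := hmem
        rw [ht] at this
        exact this
      have htn : t < n := by rw [← ht]; exact (c (mkPt hn L.O.root)).2
      set w₁ := trans L (L.O.dep t) t with hw₁
      obtain ⟨h1, h2⟩ := trans_spec T L hL (L.O.dep t) t htn hin le_rfl
      set g := (w₁.map T.perm).prod with hg
      have hgb : g (mkPt hn L.O.root) = c (mkPt hn L.O.root) := by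
        apply Fin.ext
        rw [hg, T.wordPerm_apply_val, mkPt_val hn _ hL.1, h1, ht]
      have hc' : g⁻¹ * c ∈ Q ⊓ MulAction.stabilizer (Equiv.Perm (Fin n)) (mkPt hn L.O.root) := by
        refine ⟨Q.mul_mem (Q.inv_mem (hKQ h2)) hc, ?_⟩
        show (g⁻¹ * c) (mkPt hn L.O.root) = mkPt hn L.O.root
        rw [Equiv.Perm.mul_apply, ← hgb]
        simp
      have hts2 : List.Forall₂ (fun L' t' => ((g⁻¹ * c) (mkPt hn L'.O.root)).val = t') Ls
          (List.map (act T.tf (List.reverse w₁)) ts') := by
        rw [List.forall₂_map_right_iff]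
        refine List.Forall₂.imp ?_ hts'
        intro L' t' h
        rw [Equiv.Perm.mul_apply, hg, ← wordPerm_reverse, T.wordPerm_apply_val, h]
      obtain ⟨w', hw', hs'⟩ := ih _ _ (g⁻¹ * c)
        (fun L' hL' => hok L' (List.mem_cons_of_mem _ hL')) hrest hc' hts2
      refine ⟨w₁ ++ w', ?_, ?_⟩
      · rw [wordPerm_append, ← hw', ← hg, mul_inv_cancel_left]
      · intro P acc
        rw [siftP_cons, hin, ← List.append_assoc]
        exact hs' P (acc ++ w₁)

/-- an element of `Q` fixing the base points of an exact chain of levels is trivial -/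
theorem eq_one_of_fix (hn : 0 < n) (Ls : List (Level α)) (Q : Subgroup (Equiv.Perm (Fin n)))
    (hok : ∀ L ∈ Ls, LevelOK T L) (hex : ExactChain (chainOf T hn Ls) Q)
    (c : Equiv.Perm (Fin n)) (hc : c ∈ Q)
    (hfix : ∀ L (hL : L ∈ Ls), (c ⟨L.O.root, (hok L hL).1⟩).val = L.O.root) : c = 1 := by
  apply eq_one_of_exactChain _ Q hex c hc
  intro p hp
  obtain ⟨L, hL, rfl⟩ := List.mem_map.1 hp
  show c (mkPt hn L.O.root) = mkPt hn L.O.root
  have hb : mkPt hn L.O.root = ⟨L.O.root, (hok L hL).1⟩ := Fin.ext (mkPt_val hn _ (hok L hL).1)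
  rw [hb]
  exact Fin.ext (hfix L hL)

end Tab

end Cfsg.Agent.Lib.Helper28.Sift
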