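/-
Centralizers and conjugators in a presented group with a faithful permutation representation given
by a table: an element `c` with `c x = z c` (for words `x`, `z`) is found by sifting the images
`z^j q'` of the base points `x^j q` of an exact chain, `q'` running over the points.
-/
import Cfsg.Agent.Lib.Helper28.Sift.Core

set_option autoImplicit false

namespace Cfsg.Agent.Lib.Helper28.Sift

open Cfsg.Agent.Lib.Helper28.TC
open Cfsg.Agent.Lib.Helper28.Ord

/-! ### Boolean helpers (by raw recursion, for kernel evaluation) -/

/-- Boolean or -/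
def bor (a b : Bool) : Bool := Bool.rec b true a

theorem bor_eq_true {a b : Bool} : bor a b = true ↔ a = true ∨ b = true := by
  cases a <;> cases b <;> simp [bor]

/-- Boolean negation -/
def bnot (a : Bool) : Bool := Bool.rec true false a

theorem bnot_eq_true {a : Bool} : bnot a = true ↔ a = false := by
  cases a <;> simp [bnot]

/-- some member of the list satisfies `p` -/
def anyList {β : Type} (p : β → Bool) (l : List β) : Bool :=
  List.rec false (fun b _ ih => bor (p b) ih) l

theorem anyList_spec {β : Type} (p : β → Bool) (l : List β) (h : anyList p l = true) :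
    ∃ b ∈ l, p b = true := by
  induction l with
  | nil => cases h
  | cons b l ih =>
    have h' : bor (p b) (anyList p l) = true := h
    rw [bor_eq_true] at h'
    rcases h' with h' | h'
    · exact ⟨b, List.mem_cons_self, h'⟩
    · obtain ⟨b', hb', hp⟩ := ih h'
      exact ⟨b', List.mem_cons_of_mem _ hb', hp⟩

/-- `k`-fold repetition of a word -/
def wrep {α : Type} (k : ℕ) (w : List α) : List α := Nat.rec [] (fun _ ih => w ++ ih) k

theorem wrep_zero {α : Type} (w : List α) : wrep 0 w = [] := rfl

theorem wrep_succ {α : Type} (k : ℕ) (w : List α) : wrep (k + 1) w = w ++ wrep k w := rfl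

theorem wval_wrep {α : Type} {G : Type*} [Group G] (val : α → G) (k : ℕ) (w : List α) :
    wval val (wrep k w) = wval val w ^ k := by
  induction k with
  | zero => rw [wrep_zero, wval_nil, pow_zero]
  | succ k ih => rw [wrep_succ, wval_append, ih, pow_succ']

section Pres

variable {α : Type}

/-- the points `q, z q, z² q, …` (`k` of them) -/
def orbList (tf : α → ℕ → ℕ) (zw : List α) (k q : ℕ) : List ℕ :=
  Nat.rec (motive := fun _ => ℕ → List ℕ) (fun _ => []) (fun _ ih q => q :: ih (act tf zw q)) k q

theorem orbList_zero (tf : α → ℕ → ℕ) (zw : List α) (q : ℕ) : orbList tf zw 0 q = [] := rfl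

theorem orbList_succ (tf : α → ℕ → ℕ) (zw : List α) (k q : ℕ) :
    orbList tf zw (k + 1) q = q :: orbList tf zw k (act tf zw q) := rfl

/-- the word fixes the base points of the levels -/
def isIdL (tf : α → ℕ → ℕ) (Ls : List (Level α)) (w : List α) : Bool :=
  allList (fun L => Nat.beq (act tf w L.O.root) L.O.root) Ls

variable [DecidableEq α] {rels : Set (FreeGroup α)} {n : ℕ} (T : PermTable α n)
  (hrel : ∀ r ∈ rels, FreeGroup.lift T.perm r = 1)

theorem toGroup_wval_val (w : List α) (p : Fin n) :
    (PresentedGroup.toGroup hrel (wval (pval rels) w) p).val = act T.tf w p.val := by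
  rw [toGroup_wval T hrel, T.wordPerm_apply_val]

/-- conjugators are found by the sift -/
theorem conj_cover (hφ : Function.Injective (PresentedGroup.toGroup hrel)) (hn : 0 < n)
    (Ls : List (Level α)) (hok : ∀ L ∈ Ls, LevelOK T L)
    (hex : ExactChain (chainOf T hn Ls) (PresentedGroup.toGroup hrel).range)
    (xw zw : List α) (q : ℕ) (hq : q < n)
    (hroots : Ls.map (fun L => L.O.root) = orbList T.tf xw Ls.length q)
    (c : PresentedGroup rels) (hc : c * wval (pval rels) xw = wval (pval rels) zw * c) :
    ∃ q', q' < n ∧ ∃ w : List α, c = wval (pval rels) w ∧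
      ∀ P : List α → Bool, siftP T.tf P Ls (orbList T.tf zw Ls.length q') [] = P w := by
  set φ := PresentedGroup.toGroup hrel with hφdef
  set q' := (φ c (mkPt hn q)).val with hq'
  have hq'n : q' < n := (φ c (mkPt hn q)).2
  have key : ∀ (Ls : List (Level α)) (q q' : ℕ), q < n → (φ c (mkPt hn q)).val = q' →
      Ls.map (fun L => L.O.root) = orbList T.tf xw Ls.length q →
      List.Forall₂ (fun L t => (φ c (mkPt hn L.O.root)).val = t) Ls
        (orbList T.tf zw Ls.length q') := by
    intro Ls
    induction Ls with
    | nil =>
      intro q q' _ _ _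
      exact List.Forall₂.nil
    | cons L Ls ih =>
      intro q q' hq hqq hr
      rw [List.length_cons, orbList_succ, List.map_cons] at hr
      rw [List.length_cons, orbList_succ]
      have hLq : L.O.root = q := (List.cons.inj hr).1
      have hrest := (List.cons.inj hr).2
      refine List.Forall₂.cons (by rw [hLq]; exact hqq) ?_
      have hxq : act T.tf xw q < n := by
        have := toGroup_wval_val T hrel xw (mkPt hn q)
        rw [mkPt_val hn q hq] at this
        rw [← this]
        exact (PresentedGroup.toGroup hrel (wval (pval rels) xw) (mkPt hn q)).2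
      apply ih (act T.tf xw q) (act T.tf zw q') hxq ?_ hrest
      have e1 : mkPt hn (act T.tf xw q) = φ (wval (pval rels) xw) (mkPt hn q) := by
        apply Fin.ext
        rw [mkPt_val hn _ hxq, hφdef, toGroup_wval_val, mkPt_val hn q hq]
      rw [e1, ← Equiv.Perm.mul_apply, ← map_mul, hc, map_mul, Equiv.Perm.mul_apply, hφdef,
        toGroup_wval_val, ← hφdef, hqq]
  have hF := key Ls q q' hq rfl hroots
  obtain ⟨w, hw, hs⟩ := siftP_sound T hn Ls φ.range
    (orbList T.tf zw Ls.length q') (φ c) hok hex ⟨c, rfl⟩ hF
  refine ⟨q', hq'n, w, ?_, ?_⟩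
  · apply hφ
    rw [hw, hφdef, toGroup_wval]
  · intro P
    rw [hs P [], List.nil_append]

/-- a word is trivial iff it fixes the base points of an exact chain -/
theorem isIdL_iff (hφ : Function.Injective (PresentedGroup.toGroup hrel)) (hn : 0 < n)
    (Ls : List (Level α)) (hok : ∀ L ∈ Ls, LevelOK T L)
    (hex : ExactChain (chainOf T hn Ls) (PresentedGroup.toGroup hrel).range) (w : List α) :
    isIdL T.tf Ls w = true ↔ wval (pval rels) w = 1 := by
  constructor
  · intro h
    apply hφ
    rw [map_one]
    apply eq_one_of_fix T hn Ls _ hok hex _ ⟨_, rfl⟩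
    intro L hL
    rw [toGroup_wval_val]
    exact nbeq_eq_true.1 (allList_spec _ _ h L hL)
  · intro h
    unfold isIdL
    have key : ∀ L ∈ Ls, Nat.beq (act T.tf w L.O.root) L.O.root = true := by
      intro L hL
      rw [nbeq_eq_true]
      have := toGroup_wval_val T hrel w ⟨L.O.root, (hok L hL).1⟩
      rw [h, map_one] at this
      exact this.symm
    clear hex hok
    induction Ls with
    | nil => rfl
    | cons L Ls ih =>
      rw [allList_cons, band_eq_true]
      exact ⟨key L List.mem_cons_self, ih (fun L' hL' => key L' (List.mem_cons_of_mem _ hL'))⟩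

end Pres

end Cfsg.Agent.Lib.Helper28.Sift
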