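/-
Building the exactness of a chain of levels from Boolean checks: the strong generators of the later
levels fix the earlier base points, and the certified orbit sizes multiply up to the group order.
-/
import Cfsg.Agent.Lib.Helper28.Sift.Cent

set_option autoImplicit false

namespace Cfsg.Agent.Lib.Helper28.Sift

open Cfsg.Agent.Lib.Helper28.TC
open Cfsg.Agent.Lib.Helper28.Ord

variable {α : Type}

/-- the generator words of the later levels fix the roots of the earlier levels -/
def fixOKL (tf : α → ℕ → ℕ) (Ls : List (Level α)) : Bool :=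
  List.rec (motive := fun _ => Bool) true
    (fun L Ls' ih => band (allList (fun L' => allList (fun w => Nat.beq (act tf w L.O.root) L.O.root)
      L'.words) Ls') ih) Ls

theorem fixOKL_nil (tf : α → ℕ → ℕ) : fixOKL tf ([] : List (Level α)) = true := rfl

theorem fixOKL_cons (tf : α → ℕ → ℕ) (L : Level α) (Ls : List (Level α)) :
    fixOKL tf (L :: Ls) = band (allList (fun L' => allList (fun w =>
      Nat.beq (act tf w L.O.root) L.O.root) L'.words) Ls) (fixOKL tf Ls) := rfl

/-- the certified orbit sizes -/
def sizesOf (n d : ℕ) (Ls : List (Level α)) : List ℕ :=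
  Ls.map (fun L => countRange (fun i => band (nlt i n) (L.O.inO i)) d 0)

variable {n : ℕ} (T : PermTable α n)

theorem exactChain_of_levels (hn : 0 < n) (Ls : List (Level α))
    (Q : Subgroup (Equiv.Perm (Fin n)))
    (hQ : ∀ L ∈ Ls, Subgroup.closure (wordPerms T L.words) ≤ Q)
    (hok : ∀ L ∈ Ls, LevelOK T L) (hfix : fixOKL T.tf Ls = true)
    (d : ℕ) (hnd : n ≤ 2 ^ d) (hcard : Nat.card Q ≤ (sizesOf n d Ls).prod) :
    ExactChain (chainOf T hn Ls) Q := by
  apply exactChain_of_card
  · intro p hp
    obtain ⟨L, hL, rfl⟩ := List.mem_map.1 hp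
    exact hQ L hL
  · unfold chainOf
    rw [List.pairwise_map]
    clear hcard hQ
    induction Ls with
    | nil => exact List.Pairwise.nil
    | cons L Ls ih =>
      rw [fixOKL_cons, band_eq_true] at hfix
      rw [List.pairwise_cons]
      refine ⟨?_, ih (fun L' hL' => hok L' (List.mem_cons_of_mem _ hL')) hfix.2⟩
      intro L' hL'
      have hL : LevelOK T L := hok L List.mem_cons_self
      have hb : mkPt hn L.O.root = ⟨L.O.root, hL.1⟩ := Fin.ext (mkPt_val hn _ hL.1)
      show Subgroup.closure (wordPerms T L'.words) ≤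
        MulAction.stabilizer (Equiv.Perm (Fin n)) (mkPt hn L.O.root)
      rw [hb]
      apply closure_wordPerms_le_stabilizer
      intro w hw
      exact nbeq_eq_true.1 (allList_spec _ _ (allList_spec _ _ hfix.1 L' hL') w hw)
  · refine le_trans hcard (le_of_eq ?_)
    unfold sizesOf chainOf
    rw [List.map_map]
    congr 1
    apply List.map_congr_left
    intro L hL
    have hLok : LevelOK T L := hok L hL
    have hb : mkPt hn L.O.root = ⟨L.O.root, hLok.1⟩ := Fin.ext (mkPt_val hn _ hLok.1)
    show _ = (MulAction.orbit (Subgroup.closure (wordPerms T L.words)) (mkPt hn L.O.root)).ncard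
    rw [hb]
    exact (orbit_ncard_closure T L.words L.O hLok.1 hLok.2.1 hLok.2.2 d _ hnd rfl).symm

end Cfsg.Agent.Lib.Helper28.Sift
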