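/-
Centralizers by sifting cycle representatives: an element `c` commuting with `x` (of finite order)
can be multiplied by a power of `x` so that the image of the first base point is the least point of
its `x`-cycle; so only the least points of the cycles have to be sifted.  The powers of `x` may be
read from a table.
-/
import Cfsg.Agent.Lib.Helper28.Sift.Cent

set_option autoImplicit false

namespace Cfsg.Agent.Lib.Helper28.Sift

open Cfsg.Agent.Lib.Helper28.TC
open Cfsg.Agent.Lib.Helper28.Ord

/-- the points `q, f q, f² q, …` (`k` of them) -/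
def orbListF (f : ℕ → ℕ) (k q : ℕ) : List ℕ :=
  Nat.rec (motive := fun _ => ℕ → List ℕ) (fun _ => []) (fun _ ih q => q :: ih (f q)) k q

theorem orbListF_zero (f : ℕ → ℕ) (q : ℕ) : orbListF f 0 q = [] := rfl

theorem orbListF_succ (f : ℕ → ℕ) (k q : ℕ) :
    orbListF f (k + 1) q = q :: orbListF f k (f q) := rfl

theorem orbListF_act {α : Type} (tf : α → ℕ → ℕ) (zw : List α) (k q : ℕ) :
    orbListF (act tf zw) k q = orbList tf zw k q := by
  induction k generalizing q with
  | zero => rfl
  | succ k ih => rw [orbListF_succ, orbList_succ, ih]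

theorem orbListF_congr (f g : ℕ → ℕ) (n : ℕ) (hfg : ∀ q, q < n → f q = g q)
    (hg : ∀ q, q < n → g q < n) (k q : ℕ) (hq : q < n) : orbListF f k q = orbListF g k q := by
  induction k generalizing q with
  | zero => rfl
  | succ k ih => rw [orbListF_succ, orbListF_succ, hfg q hq, ih (g q) (hg q hq)]

theorem mem_orbListF (f : ℕ → ℕ) (k q p : ℕ) (h : p ∈ orbListF f k q) :
    ∃ i, i < k ∧ p = f^[i] q := by
  induction k generalizing q with
  | zero => cases h
  | succ k ih =>
    rw [orbListF_succ, List.mem_cons] at h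
    rcases h with h | h
    · exact ⟨0, Nat.succ_pos k, h⟩
    · obtain ⟨i, hi, hp⟩ := ih (f q) h
      exact ⟨i + 1, Nat.succ_lt_succ hi, by rw [hp, Function.iterate_succ_apply]⟩

/-- `m` is at most the points `f m, f² m, …, f^(ord-1) m` -/
def isMinF (f : ℕ → ℕ) (ord m : ℕ) : Bool := allList (fun p => Nat.ble m p) (orbListF f ord m)

theorem isMinF_of (f : ℕ → ℕ) (ord m : ℕ) (h : ∀ i, i < ord → m ≤ f^[i] m) :
    isMinF f ord m = true := by
  unfold isMinF
  have key : ∀ l : List ℕ, (∀ p ∈ l, m ≤ p) → allList (fun p => Nat.ble m p) l = true := by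
    intro l
    induction l with
    | nil => intro _; rfl
    | cons a l ih =>
      intro hl
      rw [allList_cons, band_eq_true]
      exact ⟨Nat.ble_eq_true_of_le (hl a List.mem_cons_self),
        ih (fun p hp => hl p (List.mem_cons_of_mem _ hp))⟩
  apply key
  intro p hp
  obtain ⟨i, hi, rfl⟩ := mem_orbListF f ord m p hp
  exact h i hi

section Pres

variable {α : Type}

theorem iterate_act (tf : α → ℕ → ℕ) (w : List α) (i p : ℕ) :
    (act tf w)^[i] p = act tf (wrep i w) p := by
  induction i generalizing p with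
  | zero => rfl
  | succ i ih => rw [Function.iterate_succ_apply', ih, wrep_succ, act_append]

variable [DecidableEq α] {rels : Set (FreeGroup α)} {n : ℕ} (T : PermTable α n)
  (hrel : ∀ r ∈ rels, FreeGroup.lift T.perm r = 1)

/-- conjugators are found by the sift, at the image of the first base point -/
theorem conj_cover_at (hφ : Function.Injective (PresentedGroup.toGroup hrel)) (hn : 0 < n)
    (Ls : List (Level α)) (hok : ∀ L ∈ Ls, LevelOK T L)
    (hex : ExactChain (chainOf T hn Ls) (PresentedGroup.toGroup hrel).range)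
    (xw zw : List α) (q : ℕ) (hq : q < n)
    (hroots : Ls.map (fun L => L.O.root) = orbList T.tf xw Ls.length q)
    (c : PresentedGroup rels) (hc : c * wval (pval rels) xw = wval (pval rels) zw * c) :
    ∃ w : List α, c = wval (pval rels) w ∧
      ∀ P : List α → Bool, siftP T.tf P Ls
        (orbList T.tf zw Ls.length (PresentedGroup.toGroup hrel c (mkPt hn q)).val) [] = P w := by
  set φ := PresentedGroup.toGroup hrel with hφdef
  set q' := (φ c (mkPt hn q)).val with hq'
  have key : ∀ (Ls : List (Level α)) (q q' : ℕ), q < n → (φ c (mkPt hn q)).val = q' →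
      Ls.map (fun L => L.O.root) = orbList T.tf xw Ls.length q →
      List.Forall₂ (fun L t => (φ c (mkPt hn L.O.root)).val = t) Ls
        (orbList T.tf zw Ls.length q') := by
    intro Ls
    induction Ls with
    | nil =>
      intro q q' _ _ _
      exact List.Forall₂.nil
    | cons L Ls ih =>
      intro q q' hq hqq hr
      rw [List.length_cons, orbList_succ, List.map_cons] at hr
      rw [List.length_cons, orbList_succ]
      have hLq : L.O.root = q := (List.cons.inj hr).1
      have hrest := (List.cons.inj hr).2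
      refine List.Forall₂.cons (by rw [hLq]; exact hqq) ?_
      have hxq : act T.tf xw q < n := by
        have := toGroup_wval_val T hrel xw (mkPt hn q)
        rw [mkPt_val hn q hq] at this
        rw [← this]
        exact (PresentedGroup.toGroup hrel (wval (pval rels) xw) (mkPt hn q)).2
      apply ih (act T.tf xw q) (act T.tf zw q') hxq ?_ hrest
      have e1 : mkPt hn (act T.tf xw q) = φ (wval (pval rels) xw) (mkPt hn q) := by
        apply Fin.ext
        rw [mkPt_val hn _ hxq, hφdef, toGroup_wval_val, mkPt_val hn q hq]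
      rw [e1, ← Equiv.Perm.mul_apply, ← map_mul, hc, map_mul, Equiv.Perm.mul_apply, hφdef,
        toGroup_wval_val, ← hφdef, hqq]
  have hF := key Ls q q' hq rfl hroots
  obtain ⟨w, hw, hs⟩ := siftP_sound T hn Ls φ.range
    (orbList T.tf zw Ls.length q') (φ c) hok hex ⟨c, rfl⟩ hF
  refine ⟨w, ?_, ?_⟩
  · apply hφ
    rw [hw, hφdef, toGroup_wval]
  · intro P
    rw [hs P [], List.nil_append]

theorem toGroup_pow_val (xw : List α) (i : ℕ) (p : Fin n) :
    ((PresentedGroup.toGroup hrel (wval (pval rels) xw) ^ i) p).val = act T.tf (wrep i xw) p.val := by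
  rw [← map_pow, ← wval_wrep, toGroup_wval_val]

/-- an element commuting with `x` is a power of `x` times an element found by sifting the least
point of a cycle of `x` -/
theorem cent_cover_min (hφ : Function.Injective (PresentedGroup.toGroup hrel)) (hn : 0 < n)
    (Ls : List (Level α)) (hok : ∀ L ∈ Ls, LevelOK T L)
    (hex : ExactChain (chainOf T hn Ls) (PresentedGroup.toGroup hrel).range)
    (xw : List α) (q : ℕ) (hq : q < n)
    (hroots : Ls.map (fun L => L.O.root) = orbList T.tf xw Ls.length q)
    (ord : ℕ) (hord0 : 0 < ord) (hord : wval (pval rels) xw ^ ord = 1)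
    (c : PresentedGroup rels) (hc : c * wval (pval rels) xw = wval (pval rels) xw * c) :
    ∃ j, j < ord ∧ ∃ m, m < n ∧ (∀ i, i < ord → m ≤ act T.tf (wrep i xw) m) ∧
      ∃ w : List α, c = wval (pval rels) xw ^ j * wval (pval rels) w ∧
        ∀ P : List α → Bool, siftP T.tf P Ls (orbList T.tf xw Ls.length m) [] = P w := by
  set φ := PresentedGroup.toGroup hrel with hφdef
  set x := wval (pval rels) xw with hx
  set X := φ x with hX
  have hXord : X ^ ord = 1 := by rw [hX, ← map_pow, hord, map_one]
  set P0 := φ c (mkPt hn q) with hP0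
  -- the least point of the cycle
  obtain ⟨j0, _, hj0⟩ := Finset.exists_min_image (Finset.univ : Finset (Fin ord))
    (fun j => ((X ^ (j : ℕ)) P0).val) ⟨⟨0, hord0⟩, Finset.mem_univ _⟩
  set c' := x ^ (j0 : ℕ) * c with hc'
  have hcomm : c' * x = x * c' := by
    rw [hc', mul_assoc, hc, ← mul_assoc, ← mul_assoc, ← pow_succ, ← pow_succ']
  obtain ⟨w, hw, hs⟩ := conj_cover_at T hrel hφ hn Ls hok hex xw xw q hq hroots c' hcomm
  have hM : PresentedGroup.toGroup hrel c' (mkPt hn q) = (X ^ (j0 : ℕ)) P0 := by
    rw [hc', map_mul, map_pow, Equiv.Perm.mul_apply]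
  set M := (X ^ (j0 : ℕ)) P0 with hMdef
  rw [hM] at hs
  -- the power of `x` leading back
  have hj : ∃ j, j < ord ∧ x ^ j * x ^ (j0 : ℕ) = 1 := by
    by_cases h0 : (j0 : ℕ) = 0
    · exact ⟨0, hord0, by rw [h0, pow_zero, mul_one]⟩
    · refine ⟨ord - j0, by omega, ?_⟩
      rw [← pow_add, Nat.sub_add_cancel (le_of_lt j0.2), hord]
  obtain ⟨j, hjlt, hj1⟩ := hj
  refine ⟨j, hjlt, M.val, M.2, ?_, w, ?_, hs⟩
  · intro i hi
    have e1 : act T.tf (wrep i xw) M.val = ((X ^ i) M).val := (toGroup_pow_val T hrel xw i M).symm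
    have e2 : (X ^ i) M = (X ^ ((i + j0) % ord)) P0 := by
      rw [hMdef, ← Equiv.Perm.mul_apply, ← pow_add, pow_eq_pow_mod (i + j0) hXord]
    rw [e1, e2]
    exact hj0 ⟨(i + j0) % ord, Nat.mod_lt _ hord0⟩ (Finset.mem_univ _)
  · rw [← hw, hc', ← mul_assoc, hj1, one_mul]

end Pres

end Cfsg.Agent.Lib.Helper28.Sift
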